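import Cfsg.Agent.Lib.Blocks.PrimeOrderPrincipal
import Cfsg.Agent.Lib.Characters.Kernel
import Cfsg.Agent.Lib.Transfer.AbelianSylow
import Cfsg.Agent.S4503

/-!
A nonabelian simple group of order divisible by the odd prime `p` has order at least
`p (p² - 1) / 2`: the degrees in the principal block leave no room below this bound.
-/

set_option autoImplicit false

namespace Cfsg.Agent.Lib.LeastNonClosed

open Cfsg Cfsg.Agent.Lib.Blocks Cfsg.Agent.Lib.Characters

theorem modEq_mul_right_cancel {p : ℕ} (hp : p.Prime) {a b e : ℤ} (he0 : 0 < e) (hep : e < p)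
    (h : a * e ≡ b * e [ZMOD p]) : a ≡ b [ZMOD p] := by
  have := Int.ModEq.cancel_right_div_gcd (by exact_mod_cast hp.pos) h
  rwa [show Int.gcd (p : ℤ) e = 1 from ?_, Nat.cast_one, Int.ediv_one] at this
  rw [Int.gcd_def, Int.natAbs_natCast]
  refine (hp.coprime_iff_not_dvd.mpr fun hd => ?_)
  have h1 := Nat.le_of_dvd (by omega) hd
  omega

theorem eq_of_modEq {p : ℕ} {a b : ℤ} (ha0 : 0 ≤ a) (hap : a < p) (hb0 : 0 ≤ b) (hbp : b < p)
    (h : a ≡ b [ZMOD p]) : a = b := by
  rw [Int.ModEq, Int.emod_eq_of_lt ha0 hap, Int.emod_eq_of_lt hb0 hbp] at h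
  exact h

/-- The numerical heart: `d` is the exceptional degree. -/
theorem exceptional_arith {p e c t k : ℕ} {d : ℕ} {ε : ℤ} (hp : p.Prime) (hp5 : 5 ≤ p)
    (he2 : 2 ≤ e) (he : 2 * e + 1 ≤ p) (hc : 1 ≤ c) (hk : 1 ≤ k) (ht : t * e = p - 1)
    (hord : 2 * (e * c * (1 + k * p)) < p ^ 2 - 1) (hd : p ≤ 2 * d + 1)
    (hdvd : d ∣ e * c * (1 + k * p)) (hε : ε = 1 ∨ ε = -1) (hdmod : (d : ℤ) ≡ ε * e [ZMOD p])
    (hsq : t * d ^ 2 ≤ p * e * c * (1 + k * p)) :
    p = e + c + e * c * k ∧ d + e = p ∧ ε = -1 := by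
  obtain ⟨f, hf⟩ := hdvd
  have hpp : (p : ℤ) ^ 2 - 1 = ((p ^ 2 - 1 : ℕ) : ℤ) := by
    rw [Nat.cast_sub (Nat.one_le_pow _ _ hp.pos)]; push_cast; ring
  have hordZ : 2 * ((e : ℤ) * c * (1 + k * p)) < (p : ℤ) ^ 2 - 1 := by rw [hpp]; exact_mod_cast hord
  have hfZ : (e : ℤ) * c * (1 + k * p) = d * f := by exact_mod_cast hf
  have hf0 : 0 < f := by
    rcases Nat.eq_zero_or_pos f with rfl | h
    · rw [mul_zero] at hf
      have : 0 < e * c * (1 + k * p) := by positivity
      omega
    · exact h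
  have hfp : f ≤ p := by
    by_contra hlt
    have h1 : (p : ℤ) - 1 ≤ 2 * d := by omega
    have h2 : (p : ℤ) + 1 ≤ f := by omega
    nlinarith [mul_le_mul h1 h2 (by omega) (by omega)]
  have hec2 : 2 * ((e : ℤ) * c) < p - 1 := by
    have h1 : (p : ℤ) + 1 ≤ 1 + k * p := by nlinarith
    have h2 : (e : ℤ) * c * (p + 1) ≤ e * c * (1 + k * p) := mul_le_mul_of_nonneg_left h1 (by positivity)
    nlinarith
  have hne : f ≠ p := fun h => by
    have h1 : (p : ℤ) ∣ (e : ℤ) * c * (1 + k * p) := ⟨d, by rw [hfZ, h]; ring⟩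
    have h2 : (p : ℤ) ∣ (e : ℤ) * c := by
      have := dvd_sub h1 (dvd_mul_left (p : ℤ) (e * c * k))
      rwa [show (e : ℤ) * c * (1 + k * p) - e * c * k * p = e * c by ring] at this
    have h3 : p ∣ e * c := by exact_mod_cast h2
    rcases hp.dvd_mul.mp h3 with h4 | h4
    · have := Nat.le_of_dvd (by omega) h4; omega
    · have h5 : (p : ℤ) ≤ c := by exact_mod_cast Nat.le_of_dvd (by omega) h4
      nlinarith
  have hcp : (c : ℤ) < p := by nlinarith
  -- `f ≡ ε c`
  have hmod : ε * f ≡ (c : ℤ) [ZMOD p] := by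
    refine modEq_mul_right_cancel hp (e := e) (by omega) (by omega) ?_
    have h1 : (d : ℤ) * f ≡ ε * e * f [ZMOD p] := hdmod.mul_right _
    rw [← hfZ] at h1
    have h2 : (e : ℤ) * c * (1 + k * p) ≡ c * e [ZMOD p] :=
      Int.modEq_iff_dvd.mpr ⟨-(e * c * k : ℤ), by ring⟩
    calc ε * f * e = ε * e * f := by ring
      _ ≡ c * e [ZMOD p] := h1.symm.trans h2
  rcases hε with rfl | rfl
  · -- `f = c`
    rw [one_mul] at hmod
    have hfc : (f : ℤ) = c := eq_of_modEq (by omega) (by omega) (by omega) hcp hmod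
    have hd' : (d : ℤ) = e * (1 + k * p) := by
      rw [hfc] at hfZ
      have : (d : ℤ) * c = (e * (1 + k * p)) * c := by rw [← hfZ]; ring
      exact mul_right_cancel₀ (by omega) this
    have hsqZ : (t : ℤ) * d ^ 2 ≤ p * e * c * (1 + k * p) := by exact_mod_cast hsq
    have htZ : (t : ℤ) * e = p - 1 := by
      have : ((t * e : ℕ) : ℤ) = ((p - 1 : ℕ) : ℤ) := by rw [ht]
      rw [Nat.cast_sub (by omega)] at this
      push_cast at this; exact this
    rw [hd'] at hsqZ
    have h1 : ((p : ℤ) - 1) * (1 + k * p) * ((e : ℤ) * (1 + k * p)) ≤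
        (p * c) * ((e : ℤ) * (1 + k * p)) := by
      rw [← htZ]; nlinarith
    have h2 := le_of_mul_le_mul_right h1 (by positivity)
    have hn : (p : ℤ) + 1 ≤ 1 + k * p := by nlinarith
    have h4c : 4 * (c : ℤ) * (p + 1) < (p : ℤ) ^ 2 - 1 := by nlinarith
    exfalso
    nlinarith
  · -- `f = p - c`
    have hfc : (f : ℤ) = p - c := by
      refine eq_of_modEq (p := p) (by omega) (by omega) (by omega) (by omega) ?_
      have h1 := hmod.neg
      rw [show -(-1 * (f : ℤ)) = f by ring] at h1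
      exact h1.trans (Int.modEq_iff_dvd.mpr ⟨1, by ring⟩)
    have hc4 : 4 * (c : ℤ) < p - 1 := by nlinarith
    have hdlt : (d : ℤ) < p := by
      by_contra hle
      have h1 : (p : ℤ) ≤ d := by omega
      nlinarith
    have hde : (d : ℤ) = p - e := by
      refine eq_of_modEq (p := p) (by omega) hdlt (by omega) (by omega) ?_
      exact hdmod.trans (Int.modEq_iff_dvd.mpr ⟨1, by ring⟩)
    rw [hfc, hde] at hfZ
    have h1 : (p : ℤ) * (p - e - c - e * c * k) = 0 := by linear_combination -hfZ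
    have h2 := (mul_eq_zero.mp h1).resolve_left (by omega)
    exact ⟨by zify; linarith, by zify; linarith, rfl⟩

/-- A nontrivial character of small degree in the principal block. -/
theorem ordinary_arith {p e c k : ℕ} {d : ℕ} {δ : ℤ} (hp : p.Prime) (hp5 : 5 ≤ p)
    (he2 : 2 ≤ e) (hc : 2 ≤ c) (hk : 1 ≤ k) (hpe : p = e + c + e * c * k)
    (hord : 2 * (e * c * (1 + k * p)) < p ^ 2 - 1) (hd : p ≤ 2 * d + 1)
    (hdvd : d ∣ e * c * (1 + k * p)) (hδ : δ = 1 ∨ δ = -1) (hdmod : (d : ℤ) ≡ δ [ZMOD p]) :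
    δ = 1 := by
  rcases hδ with h | rfl
  · exact h
  exfalso
  obtain ⟨f, hf⟩ := hdvd
  have hpp : (p : ℤ) ^ 2 - 1 = ((p ^ 2 - 1 : ℕ) : ℤ) := by
    rw [Nat.cast_sub (Nat.one_le_pow _ _ hp.pos)]; push_cast; ring
  have hordZ : 2 * ((e : ℤ) * c * (1 + k * p)) < (p : ℤ) ^ 2 - 1 := by rw [hpp]; exact_mod_cast hord
  have hfZ : (e : ℤ) * c * (1 + k * p) = d * f := by exact_mod_cast hf
  have hpeZ : (p : ℤ) = e + c + e * c * k := by exact_mod_cast hpe
  have hec2 : 2 * ((e : ℤ) * c) < p - 1 := by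
    have h1 : (p : ℤ) + 1 ≤ 1 + k * p := by nlinarith
    have h2 : (e : ℤ) * c * (p + 1) ≤ e * c * (1 + k * p) := mul_le_mul_of_nonneg_left h1 (by positivity)
    nlinarith
  have hec : (e : ℤ) * c + 1 < p := by nlinarith
  have hfp : f ≤ p := by
    by_contra hlt
    have h1 : (p : ℤ) - 1 ≤ 2 * d := by omega
    have h2 : (p : ℤ) + 1 ≤ f := by omega
    nlinarith [mul_le_mul h1 h2 (by omega) (by omega)]
  have hmod : (f : ℤ) ≡ -(e * c) [ZMOD p] := by
    have h1 : (d : ℤ) * f ≡ -1 * f [ZMOD p] := hdmod.mul_right _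
    rw [← hfZ] at h1
    have h2 : (e : ℤ) * c * (1 + k * p) ≡ e * c [ZMOD p] :=
      Int.modEq_iff_dvd.mpr ⟨-(e * c * k : ℤ), by ring⟩
    have h3 := (h1.symm.trans h2).neg
    rwa [show -(-1 * (f : ℤ)) = f by ring] at h3
  have hfec : (f : ℤ) = p - e * c := by
    rcases eq_or_lt_of_le hfp with h | h
    · exfalso
      subst h
      have h3 : (e : ℤ) * c = 0 := by
        have h4 := Int.modEq_iff_dvd.mp hmod
        have h5 : (f : ℤ) ∣ (e : ℤ) * c := by
          have := dvd_sub (dvd_neg.mpr h4) (dvd_refl (f : ℤ))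
          rwa [show -(-(↑e * ↑c) - (f : ℤ)) - f = (e : ℤ) * c by ring] at this
        by_contra hne
        have := Int.le_of_dvd (by positivity) h5
        omega
      nlinarith
    · refine eq_of_modEq (p := p) (by omega) (by omega) (by omega) (by nlinarith) ?_
      exact hmod.trans (Int.modEq_iff_dvd.mpr ⟨1, by ring⟩)
  have h2ec : 2 * ((e : ℤ) * c) < p := by nlinarith
  have hdlt : (d : ℤ) < p := by
    by_contra hle
    have h1 : (p : ℤ) ≤ d := by omega
    nlinarith
  have hde : (d : ℤ) = p - 1 := by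
    refine eq_of_modEq (p := p) (by omega) hdlt (by omega) (by omega) ?_
    exact hdmod.trans (Int.modEq_iff_dvd.mpr ⟨1, by ring⟩)
  rw [hfec, hde] at hfZ
  have h1 : (p : ℤ) * (p - 1 - e * c - e * c * k) = 0 := by linear_combination -hfZ
  have h2 := (mul_eq_zero.mp h1).resolve_left (by omega)
  nlinarith

variable {G : Type*} [Group G] [Finite G]

theorem eq_trivIrr_of_kernel [IsSimpleGroup G] [Fintype G] (χ : IrrCharacter G)
    (hne : (χ : G → ℂ) ≠ (trivIrr G : G → ℂ)) :
    ∀ g : G, (χ : G → ℂ) g = (χ : G → ℂ) 1 → g = 1 := by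
  intro g hg
  rcases IsSimpleGroup.eq_bot_or_eq_top_of_normal (charKernel (irr_isCharacter χ)) inferInstance with h | h
  · exact Subgroup.mem_bot.mp (h ▸ hg)
  · exfalso
    have hconst : ∀ x : G, (χ : G → ℂ) x = (χ : G → ℂ) 1 := fun x =>
      (mem_charKernel (irr_isCharacter χ)).mp (h ▸ Subgroup.mem_top x)
    have h0 := IsIrrCharacter.classInner_ne χ.2 (trivIrr G).2 hne
    rw [classInner] at h0
    simp only [trivIrr_apply, map_one, mul_one, hconst] at h0
    rw [Finset.sum_const, Finset.card_univ, nsmul_eq_mul, ← Nat.card_eq_fintype_card,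
      inv_mul_cancel_left₀ natCard_ne_zero_complex] at h0
    exact IsIrrCharacter.apply_one_ne_zero χ.2 h0

/-- The order bound. -/
theorem card_ge_of_simple [IsSimpleGroup G] (hG : ¬ IsMulCommutative G) {p : ℕ} [hpf : Fact p.Prime]
    (hp2 : p ≠ 2) (hdiv : p ∣ Nat.card G) : p * (p ^ 2 - 1) / 2 ≤ Nat.card G := by
  classical
  by_contra hlt
  push Not at hlt
  have hp : p.Prime := hpf.out
  have hord : 2 * Nat.card G < p * (p ^ 2 - 1) := by omega
  haveI := Fintype.ofFinite G
  have hp3 : 3 ≤ p := by have := hp.two_le; omega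
  have hpG : ¬ IsPGroup p G := by
    intro h
    haveI := h.isNilpotent
    exact hG ⟨⟨IsSimpleGroup.comm_iff_isSolvable.mpr inferInstance⟩⟩
  -- the Sylow subgroup
  obtain ⟨P⟩ : Nonempty (Sylow p G) := inferInstance
  have hnP : ¬ (P : Subgroup G).Normal := by
    intro h
    rcases IsSimpleGroup.eq_bot_or_eq_top_of_normal (P : Subgroup G) h with h' | h'
    · exact P.ne_bot_of_dvd_card hdiv h'
    · exact hpG fun g => by
        obtain ⟨j, hj⟩ := P.2 ⟨g, h' ▸ Subgroup.mem_top g⟩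
        exact ⟨j, congrArg Subtype.val hj⟩
  set n := (Subgroup.normalizer ((P : Subgroup G) : Set G)).index with hn
  have hnmod : n ≡ 1 [MOD p] := by
    have h := card_sylow_modEq_one p G
    rwa [Sylow.card_eq_index_normalizer P] at h
  have hn1 : n ≠ 1 := fun h => hnP (Subgroup.normalizer_eq_top_iff.mp (Subgroup.index_eq_one.mp h))
  obtain ⟨k, hk⟩ : ∃ k, n = 1 + k * p := ⟨(n - 1) / p, by
    have hpos : 0 < n := Nat.pos_of_ne_zero Subgroup.index_ne_zero_of_finite
    have := (Nat.modEq_iff_dvd' hpos).mp hnmod.symm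
    rw [Nat.div_mul_cancel this]; omega⟩
  have hk1 : 1 ≤ k := by
    rcases Nat.eq_zero_or_pos k with rfl | h
    · simp at hk; exact absurd hk hn1
    · exact h
  set e := (Subgroup.centralizer ((P : Subgroup G) : Set G)).relIndex
    (Subgroup.normalizer ((P : Subgroup G) : Set G)) with he
  have hcard : Nat.card G = n * Nat.card (Subgroup.normalizer ((P : Subgroup G) : Set G)) := by
    rw [hn, Subgroup.index_mul_card]
  have hPN : (P : Subgroup G) ≤ Subgroup.normalizer ((P : Subgroup G) : Set G) := Subgroup.le_normalizer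
  have hPc : Nat.card (P : Subgroup G) = p := by
    obtain ⟨j, hj⟩ := IsPGroup.iff_card.mp P.2
    rcases j with _ | _ | j
    · exact absurd (Subgroup.eq_bot_of_card_eq _ (by rw [hj, pow_zero])) (P.ne_bot_of_dvd_card hdiv)
    · rw [hj, pow_one]
    · exfalso
      obtain ⟨r, hr⟩ := Subgroup.card_dvd_of_le hPN
      rw [hj] at hr
      have h1 : p ^ 2 * (1 + k * p) ≤ Nat.card G := by
        rw [hcard, hk, mul_comm (1 + k * p)]
        refine Nat.mul_le_mul_right _ (Nat.le_of_dvd Nat.card_pos ?_)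
        rw [hr]
        exact dvd_mul_of_dvd_left (pow_dvd_pow p (by omega)) r
      have h2 : p ^ 2 * (1 + p) ≤ p ^ 2 * (1 + k * p) := Nat.mul_le_mul_left _ (by nlinarith)
      have h3 : p * (p ^ 2 - 1) ≤ p * p ^ 2 := Nat.mul_le_mul_left _ (Nat.sub_le _ _)
      nlinarith
  have hsq : ¬ p ^ 2 ∣ Nat.card G := by
    intro h
    have h1 := Sylow.card_eq_multiplicity P
    rw [hPc] at h1
    have h2 := (hp.pow_dvd_iff_le_factorization Nat.card_pos.ne').mp h
    have h3 : p ^ 1 = p ^ (Nat.card G).factorization p := by rw [pow_one]; exact h1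
    have h4 := Nat.pow_right_injective hp.two_le h3
    omega
  have hPab : IsMulCommutative (P : Subgroup G) := by
    haveI := isCyclic_of_prime_card hPc
    exact ⟨⟨fun a b => (IsCyclic.commGroup (α := (P : Subgroup G))).mul_comm a b⟩⟩
  obtain ⟨c, hc⟩ : p ∣ Nat.card (Subgroup.centralizer ((P : Subgroup G) : Set G)) := by
    have hle : (P : Subgroup G) ≤ Subgroup.centralizer ((P : Subgroup G) : Set G) := fun x hx =>
      Subgroup.mem_centralizer_iff.mpr fun y hy =>
        congrArg Subtype.val (hPab.is_comm.comm ⟨y, hy⟩ ⟨x, hx⟩)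
    have h := Subgroup.card_dvd_of_le hle
    rwa [hPc] at h
  have hN : Nat.card (Subgroup.normalizer ((P : Subgroup G) : Set G)) = p * c * e := by
    have h := Subgroup.relIndex_mul_relIndex ⊥ (Subgroup.centralizer ((P : Subgroup G) : Set G))
      (Subgroup.normalizer ((P : Subgroup G) : Set G)) bot_le (Subgroup.centralizer_le_normalizer _)
    rw [Subgroup.relIndex_bot_left, Subgroup.relIndex_bot_left, hc] at h
    exact h.symm
  have hcard' : Nat.card G = p * (e * c * (1 + k * p)) := by rw [hcard, hN, hk]; ring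
  have hc1 : 1 ≤ c := by
    rcases Nat.eq_zero_or_pos c with rfl | h
    · rw [mul_zero] at hc; exact absurd hc Nat.card_pos.ne'
    · exact h
  have hord' : 2 * (e * c * (1 + k * p)) < p ^ 2 - 1 := by
    rw [hcard', mul_left_comm] at hord
    exact Nat.lt_of_mul_lt_mul_left hord
  have he2 : 2 ≤ e := by
    by_contra h
    have he1 : e = 1 := by
      rcases Nat.lt_succ_iff.mp (not_le.mp h) |>.lt_or_eq with h0 | h0
      · exact absurd (Nat.lt_one_iff.mp h0) Subgroup.index_ne_zero_of_finite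
      · exact h0
    have hle := Subgroup.relIndex_eq_one.mp he1
    exact hpG (Transfer.isPGroup_of_simple
      (Transfer.hasNormalPComplement_of_normalizer_le_centralizer P hle) hdiv)
  obtain ⟨M, hM⟩ := exists_isPModular hp
  haveI : M.IsPrime := hM.2.1.isPrime
  obtain ⟨X, Y, -, hdisj, hXc, hYc, εX, ε, hX, hε, hY, hYY, hrel⟩ :=
    principal_block_prime_order hM hp2 P hPc e he.symm
  obtain ⟨te, hte⟩ : e ∣ p - 1 := by
    obtain ⟨u, hu, hu1⟩ := (Subgroup.bot_or_exists_ne_one (P : Subgroup G)).resolve_left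
      (P.ne_bot_of_dvd_card hdiv)
    obtain ⟨tg, r, -, -, -, hprim, -, -⟩ := exists_normalizer_generator (P : Subgroup G) hPc hsq hu hu1
    have hr0 : (r : ZMod p) ≠ 0 := hprim.ne_zero (by omega)
    exact hprim.dvd_of_pow_eq_one _ (ZMod.pow_card_sub_one_eq_one hr0)
  rw [hte, Nat.mul_div_cancel_left _ (by omega : 0 < e)] at hYc
  have he_half : 2 * e + 1 ≤ p := by
    rcases te with _ | _ | te
    · rw [mul_zero] at hte; omega
    · exfalso
      rw [zero_add, mul_one] at hte
      have h1 : (p - 1) * (p + 1) ≤ e * c * (1 + k * p) := by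
        rw [← hte]
        calc (p - 1) * (p + 1) = (p - 1) * 1 * (1 + 1 * p) := by ring
          _ ≤ _ := Nat.mul_le_mul (Nat.mul_le_mul_left _ hc1) (by nlinarith)
      have h2 : p ^ 2 - 1 = (p - 1) * (p + 1) := by
        rw [mul_comm, ← Nat.sq_sub_sq, one_pow]
      omega
    · have : e * 2 ≤ e * (te + 1 + 1) := Nat.mul_le_mul_left e (by omega)
      omega
  have hp5 : 5 ≤ p := by omega
  have ht2 : 2 ≤ te := by
    rcases te with _ | _ | te
    · omega
    · omega
    · omega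
  -- degrees of nontrivial characters
  have hdeg : ∀ χ : IrrCharacter G, χ ≠ trivIrr G →
      p ≤ 2 * charDegree (χ : G → ℂ) + 1 := by
    intro χ hχ
    refine S4503.result p hp hdiv hsq (fun H hH hHc => ?_) _ (irr_isCharacter χ)
      (eq_trivIrr_of_kernel χ fun h => hχ (Subtype.ext h))
    rcases IsSimpleGroup.eq_bot_or_eq_top_of_normal H hH with rfl | rfl
    · rw [Subgroup.card_bot] at hHc; omega
    · rw [Subgroup.card_top] at hHc
      exact hpG (IsPGroup.of_card (n := 1) (by rw [hHc, pow_one]))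
  have hdvd : ∀ χ : IrrCharacter G, ∀ δ : ℤ, ((δ : ℤ).natAbs = 1 ∨ δ.natAbs = e) →
      ((charDegree (χ : G → ℂ) : ℤ) ≡ δ [ZMOD p]) →
      charDegree (χ : G → ℂ) ∣ e * c * (1 + k * p) := by
    intro χ δ hδ hmod
    have h1 := Blocks.charDegree_dvd_card χ
    rw [hcard'] at h1
    refine ((hp.coprime_iff_not_dvd.mpr fun hpd => ?_).symm).dvd_of_dvd_mul_left h1
    have h3 : (p : ℤ) ∣ δ := by
      have := dvd_add (Int.modEq_iff_dvd.mp hmod) (Int.natCast_dvd_natCast.mpr hpd)
      rwa [sub_add_cancel] at this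
    have h4 : p ∣ δ.natAbs := Int.natCast_dvd.mp h3
    rcases hδ with h | h <;> rw [h] at h4
    · exact hp.one_lt.ne' (Nat.dvd_one.mp h4)
    · exact absurd (Nat.le_of_dvd (by omega) h4) (by omega)
  -- the exceptional degree
  have hYne : Y.Nonempty := by
    rw [Set.nonempty_iff_ne_empty]
    intro h
    rw [h] at hYc
    simp at hYc
    omega
  obtain ⟨θ, hθ⟩ := hYne
  have hsame : ∀ θ' ∈ Y, (θ' : G → ℂ) 1 = (θ : G → ℂ) 1 := fun θ' h' =>
    hYY θ' h' θ hθ 1 (by rw [orderOf_one]; exact hp.not_dvd_one)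
  have htriv : trivIrr G ∉ Y := by
    intro ht
    obtain ⟨θ', hθ', hne⟩ : ∃ θ' ∈ Y, θ' ≠ trivIrr G := by
      by_contra! hall
      have hsub : Y ⊆ {trivIrr G} := fun x hx => hall x hx
      have := Nat.card_mono (Set.finite_singleton _) hsub
      rw [hYc, Nat.card_unique] at this
      omega
    have h1 := hdeg θ' hne
    have h2 : ((charDegree (θ' : G → ℂ) : ℕ) : ℂ) = ((1 : ℕ) : ℂ) := by
      rw [Blocks.charDegree_eq, hsame θ' hθ', ← hsame _ ht, trivIrr_apply, Nat.cast_one]
    rw [Nat.cast_inj.mp h2] at h1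
    omega
  have hθd := hdeg θ (fun h => htriv (h ▸ hθ))
  haveI := Fintype.ofFinite (IrrCharacter G)
  have hsum : te * charDegree (θ : G → ℂ) ^ 2 ≤ p * e * c * (1 + k * p) := by
    have h := sum_degree_sq (G := G)
    have h2 : ((∑ χ : IrrCharacter G, charDegree (χ : G → ℂ) ^ 2 : ℕ) : ℂ) = (Nat.card G : ℂ) := by
      push_cast
      rw [← h]
      exact Finset.sum_congr rfl fun χ _ => by rw [Blocks.charDegree_eq]
    have h3 := Nat.cast_inj.mp h2
    have h4 : ∑ χ ∈ Y.toFinset, charDegree (χ : G → ℂ) ^ 2 ≤ Nat.card G :=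
      h3 ▸ Finset.sum_le_univ_sum_of_nonneg fun _ => Nat.zero_le _
    rw [Finset.sum_congr rfl fun (χ : IrrCharacter G) hχ => show charDegree (χ : G → ℂ) ^ 2 = charDegree (θ : G → ℂ) ^ 2 by
        congr 1
        exact Nat.cast_injective (R := ℂ) (by
          rw [Blocks.charDegree_eq, Blocks.charDegree_eq, hsame χ (Set.mem_toFinset.mp hχ)]),
      Finset.sum_const, smul_eq_mul, Set.toFinset_card, ← Nat.card_eq_fintype_card, hYc, hcard'] at h4
    calc te * charDegree (θ : G → ℂ) ^ 2 ≤ _ := h4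
      _ = _ := by ring
  obtain ⟨hpe, hde, hεm⟩ := exceptional_arith hp hp5 he2 he_half hc1 hk1 (by rw [hte]; ring) hord' hθd
    (hdvd θ (ε * e) (Or.inr (by rcases hε with rfl | rfl <;> simp)) (hY θ hθ)) hε (hY θ hθ) hsum
  rcases Nat.lt_or_ge 1 c with hc2 | hc2
  · -- every ordinary nontrivial character would have positive sign
    have hrel1 := hrel θ hθ 1 (by rw [orderOf_one]; exact hp.not_dvd_one)
    rw [hεm, ← Set.coe_toFinset X, finsum_mem_coe_finset] at hrel1
    have hZ : (-1 : ℤ) * (charDegree (θ : G → ℂ) : ℤ)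
        = ∑ χ ∈ X.toFinset, εX χ * (charDegree (χ : G → ℂ) : ℤ) := by
      have h : (((-1 : ℤ) * (charDegree (θ : G → ℂ) : ℤ) : ℤ) : ℂ) =
          ((∑ χ ∈ X.toFinset, εX χ * (charDegree (χ : G → ℂ) : ℤ) : ℤ) : ℂ) := by
        push_cast at hrel1 ⊢
        simp only [Blocks.charDegree_eq]
        exact hrel1
      exact_mod_cast h
    have hpos : (0 : ℤ) ≤ ∑ χ ∈ X.toFinset, εX χ * (charDegree (χ : G → ℂ) : ℤ) := by
      refine Finset.sum_nonneg fun χ hχ => ?_
      obtain ⟨h1, h2, -⟩ := hX χ (Set.mem_toFinset.mp hχ)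
      by_cases ht : χ = trivIrr G
      · have hd1 : charDegree (χ : G → ℂ) = 1 :=
          Nat.cast_injective (R := ℂ) (by rw [Blocks.charDegree_eq, ht, trivIrr_apply, Nat.cast_one])
        rw [hd1, Nat.cast_one] at h2
        rcases h1 with h | h <;> rw [h] at h2 ⊢
        · positivity
        · exfalso
          have := Int.le_of_dvd (by norm_num) ((dvd_neg).mpr (Int.modEq_iff_dvd.mp h2))
          omega
      · rw [ordinary_arith hp hp5 he2 hc2 hk1 hpe hord' (hdeg χ ht)
          (hdvd χ (εX χ) (Or.inl (by rcases h1 with h | h <;> simp [h])) h2) h1 h2]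
        positivity
    have hd0 : 0 < charDegree (θ : G → ℂ) := by omega
    omega
  · have hc' : c = 1 := by omega
    subst hc'
    simp only [mul_one] at hord' hpe
    zify [Nat.one_le_pow 2 p hp.pos] at hord' he_half hpe
    nlinarith

end Cfsg.Agent.Lib.LeastNonClosed
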